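import Cfsg.Agent.H89.Gen.Meet

/-!
Extension of a coprime automorphism of a normal subsystem to the preimage of any group of automorphisms
induced from `S` that it normalizes, trivially modulo the support.
-/

set_option autoImplicit false
set_option linter.style.haveILetI false
set_option linter.unusedSectionVars false

namespace Cfsg.Agent.H89.Comp

open Cfsg Cfsg.FusionSystem Cfsg.Agent.FusionSys Cfsg.Agent.H91.CentFocal
open Cfsg.Agent.H89.Gen (modGroup mem_modGroup modGroup_conj exists_frame mem_of_periodic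
  exists_mod_cent inf_autInducedBy_le setStab_mapsTo)
open Cfsg.Agent.H89.Lift (nSub mem_nSub nSub_le le_nSub)
open Cfsg.FusionSystem (centralizerIn normalizerIn)

variable {Ω : Type*} [Group Ω] {S T : Subgroup Ω} {F : FusionSystem S} {E : FusionSystem T} {p : ℕ}
  [Finite S] [Fact p.Prime]

theorem exists_ext_rel (hS : IsPGroup p S) (hE : E.IsNormalIn F p) {Q : Subgroup Ω} (hQT : Q ≤ T)
    (hQn : F.IsFullyNormalized Q) {Y : Subgroup (MulAut Q)} (hYI : Inn Q ≤ Y)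
    (hYS : Y ≤ autInducedBy S Q) {x : MulAut Q} (hx : x ∈ E.autGroup Q)
    (hco : (orderOf x).Coprime p) (hxY : ∀ y ∈ Y, x * y * x⁻¹ ∈ Y) :
    ∃ G ∈ F.autGroup (nSub S Q Y), (orderOf G).Coprime p ∧ (∀ q ∈ Q, autMap G q = autMap x q) ∧
      ∀ m ∈ nSub S Q Y, m⁻¹ * autMap G m ∈ T := by
  have hF := hE.1.2.1
  have hT := hE.1.2.2.2.1
  haveI : Finite T := finite_of_le hT.1
  haveI := finite_of_le hQn.1
  set R := Q ⊔ centralizerIn S Q with hR
  obtain ⟨γ, hγ, hγQ, hγm⟩ : ∃ γ ∈ F.autGroup R, (∀ q ∈ Q, autMap γ q = autMap x q) ∧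
      ∀ m ∈ R, m⁻¹ * autMap γ m ∈ T := exists_mod_cent hS hE hQT hQn hx hco
  have hQR : Q ≤ R := le_sup_left
  have hRS : R ≤ S := sup_le hQn.1 centralizerIn_le
  haveI := finite_of_le hRS
  haveI := finite_mulAut_of_le hRS
  set M := nSub S Q Y with hM
  have hMS : M ≤ S := nSub_le
  have hMQ : M ≤ Subgroup.normalizer (Q : Set Ω) := fun m hm => (mem_nSub.1 hm).1.2
  have hCM : centralizerIn S Q ≤ M := fun c hc => mem_nSub.2 ⟨centralizerIn_le_normalizerIn hc, by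
    rw [show conjAut (centralizerIn_le_normalizerIn hc).2 = (1 : MulAut Q) from aut_ext fun q hq => by
      rw [autMap_conjAut _ hq, conjMap_apply, FusionSys.autMap_one hq,
        ← (FusionSys.mem_centralizerIn.1 hc).2 q hq, mul_inv_cancel_right]]
    exact one_mem _⟩
  have hRM : R ≤ M := sup_le (le_nSub hQn.1 hYI) hCM
  have hMR : M ≤ Subgroup.normalizer (R : Set Ω) := fun m hm => mem_normalizer_of_maps fun r hr => by
    have := (isMap_conj F hRS (hMS hm)).mapsTo_sup (C := R)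
      (fun q hq => Subgroup.mem_sup_left (by
        rw [conjMap_apply]; exact (Subgroup.mem_normalizer_iff.1 (hMQ hm) q).1 hq))
      (fun k hk => Subgroup.mem_sup_right (by
        rw [conjMap_apply]
        exact (Subgroup.mem_normalizer_iff.1 (le_normalizer_centralizerIn (hMS hm) (hMQ hm)) k).1 hk)) hr
    rwa [conjMap_apply] at this
  set K : Subgroup (MulAut R) := F.autGroup R ⊓ setStab R Q ⊓ modGroup R T with hK
  have hγK : γ ∈ K := ⟨⟨hγ, mem_setStab_of_mapsTo hQR fun q hq => by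
    rw [hγQ q hq]; exact autMap_mem x hq⟩, hγm⟩
  have hKM : ∀ c ∈ autInducedBy M R, ∀ k ∈ K, c * k * c⁻¹ ∈ K := by
    rintro c hc k ⟨⟨hkF, hkQ⟩, hkm⟩
    obtain ⟨m, hm, hmn, rfl⟩ := mem_autInducedBy.1 hc
    have hcF : conjAut hmn ∈ F.autGroup R := conjAut_mem_autGroup F hRS ⟨hMS hm, hmn⟩
    have hcQ : conjAut hmn ∈ setStab R Q := mem_setStab_of_mapsTo hQR fun q hq => by
      rw [autMap_conjAut hmn (hQR hq), conjMap_apply]
      exact (Subgroup.mem_normalizer_iff.1 (hMQ hm) q).1 hq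
    refine ⟨⟨Subgroup.mul_mem _ (Subgroup.mul_mem _ hcF hkF) (Subgroup.inv_mem _ hcF),
      Subgroup.mul_mem _ (Subgroup.mul_mem _ hcQ hkQ) (Subgroup.inv_mem _ hcQ)⟩,
      modGroup_conj hRS hcF (fun y hy hyT => ?_) hkm⟩
    rw [autMap_conjAut hmn hy, conjMap_apply]
    exact conj_mem_closed hT (hMS hm) hyT
  have hQc := isFullyCentralized_of_isFullyNormalized hS hF hQn
  have hgM : ∀ y ∈ autInducedBy M Q, x * y * x⁻¹ ∈ autInducedBy M Q := fun y hy => by
    obtain ⟨m, hm, hmn, rfl⟩ := mem_autInducedBy.1 hy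
    obtain ⟨t, ht, htn, hte⟩ := mem_autInducedBy.1 (hYS (hxY _ (mem_nSub.1 hm).2))
    refine mem_autInducedBy.2 ⟨t, mem_nSub.2 ⟨⟨ht, htn⟩, hte ▸ hxY _ (mem_nSub.1 hm).2⟩, htn, hte⟩
  obtain ⟨G, hG, hGco, hGx, k, hk, hGk⟩ := exists_frame hS hF hQc hQR hRM le_rfl hCM hMS hMQ hMR
    (receptive_of_isFullyCentralized hS hF (isFullyCentralized_of_centric_le (E := F) (le_refl' F)
      (isCentric_sup_centralizer hQc)))
    (inf_le_left.trans inf_le_left) (inf_le_left.trans inf_le_right) hKM hγK hγQ hco hgM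
  refine ⟨G, hG, hGco, hGx, fun m hm => ?_⟩
  have hGm : IsMap F M (autMap G) := (mem_autGroup_iff hMS).1 hG
  have hGmM := autMap_mem G hm
  refine mem_of_periodic hS hT hMS hRM hG hGco (fun y hy => (hGk y hy).symm ▸ autMap_mem _ hy)
    (fun y hy => by rw [hGk y hy]; exact hk.2 y hy) hm ?_
  have hzM : m⁻¹ * autMap G m ∈ M := M.mul_mem (M.inv_mem hm) hGmM
  obtain ⟨hzN, hzY⟩ := mem_nSub.1 hzM
  have hcm : conjAut (hMQ hm) ∈ F.autGroup Q := conjAut_mem_autGroup F hQn.1 ⟨hMS hm, hMQ hm⟩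
  have hcom : conjAut hzN.2 = (conjAut (hMQ hm))⁻¹ * x * (conjAut (hMQ hm))⁻¹⁻¹ * x⁻¹ := by
    have hGc : conjAut (hMQ hGmM) = x * conjAut (hMQ hm) * x⁻¹ := by
      rw [eq_mul_inv_iff_mul_eq]
      refine aut_ext fun q hq => ?_
      have hq' : m * q * m⁻¹ ∈ Q := (Subgroup.mem_normalizer_iff.1 (hMQ hm) q).1 hq
      rw [autMap_mul _ _ hq, autMap_mul _ _ hq, autMap_conjAut _ (autMap_mem x hq),
        autMap_conjAut _ hq, conjMap_apply, conjMap_apply, ← hGx q hq, ← hGx _ hq',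
        hGm.map_conj hm (le_nSub hQn.1 hYI hq)]
    rw [inv_inv, mul_assoc, mul_assoc, ← mul_assoc x, ← hGc]
    show conjAutHom Q ⟨_, hzN.2⟩ = (conjAutHom Q ⟨m, hMQ hm⟩)⁻¹ * conjAutHom Q ⟨_, hMQ hGmM⟩
    rw [← map_inv, ← map_mul]
    rfl
  obtain ⟨t, ht, htn, hte⟩ := mem_autInducedBy.1 (inf_autInducedBy_le hS hE.1 hQT hQn
    (show conjAut hzN.2 ∈ E.autGroup Q ⊓ autInducedBy S Q from
      ⟨hcom ▸ Subgroup.mul_mem _ (WeakResidual.conj_mem_autGroup hE.1.2.2 hQT (Subgroup.inv_mem _ hcm) hx)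
        (Subgroup.inv_mem _ hx),
        mem_autInducedBy.2 ⟨_, hzN.1, hzN.2, rfl⟩⟩))
  have hc : t⁻¹ * (m⁻¹ * autMap G m) ∈ centralizerIn S Q := by
    refine FusionSys.mem_centralizerIn.2 ⟨S.mul_mem (S.inv_mem (hT.1 ht)) hzN.1, fun q hq => ?_⟩
    have h := congrArg (fun a => autMap a q) hte
    rw [autMap_conjAut _ hq, autMap_conjAut htn hq, conjMap_apply, conjMap_apply] at h
    calc q * (t⁻¹ * (m⁻¹ * autMap G m)) = t⁻¹ * (t * q * t⁻¹) * (m⁻¹ * autMap G m) := by group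
      _ = _ := by rw [← h]; group
  have htM : t ∈ M := mem_nSub.2 ⟨⟨hT.1 ht, htn⟩, hte ▸ hzY⟩
  have h3 := Subgroup.mul_mem_sup (Subgroup.mem_inf.2 ⟨htM, ht⟩ : t ∈ M ⊓ T)
    (Subgroup.mem_sup_right (S := Q) hc)
  rwa [mul_inv_cancel_left] at h3

end Cfsg.Agent.H89.Comp
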