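import Cfsg.Agent.H89.Comp.QuasiClosed
import Cfsg.Agent.H89.Comp.ExtRel
import Cfsg.Agent.H89.Prod.Extend
import Cfsg.Agent.H89.CentE.Basic
import Cfsg.Agent.H89.Gen.Largest

/-!
A component lies in a given normal subsystem or centralizes its support.
-/

set_option autoImplicit false
set_option linter.style.haveILetI false
set_option linter.unusedSectionVars false

namespace Cfsg.Agent.H89.Comp

open Cfsg Cfsg.FusionSystem Cfsg.Agent.FusionSys Cfsg.Agent.H91.CentFocal
open Cfsg.Agent.H89.Prod (innMod mem_innMod innMod_conj innMod_pow)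
open Cfsg.Agent.H89.Lift (nSub mem_nSub nSub_le le_nSub inn_conj)
open Cfsg.Agent.H89.Gen (modGroup mem_modGroup)
open Cfsg.FusionSystem (centralizerIn normalizerIn)

variable {Ω : Type*} [Group Ω] {S W R : Subgroup Ω} {F : FusionSystem S} {G : FusionSystem W}
  {p : ℕ}

/-- `f` extends to a map fixing `R` pointwise. -/
def Fixes (F : FusionSystem S) (R P : Subgroup Ω) (f : Ω → Ω) : Prop :=
  ∃ g, IsMap F (P ⊔ R) g ∧ (∀ x ∈ P, g x = f x) ∧ ∀ r ∈ R, g r = r

theorem fixes_of_central {Z : Subgroup Ω} (hZ : F.IsCentral Z) (hR : R ≤ Z) {P : Subgroup Ω}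
    {f : Ω → Ω} (hf : IsMap F P f) : Fixes F R P f := by
  obtain ⟨g, hg, hge, hgZ⟩ := (Cfsg.Agent.FusionSys.isCentral_iff.1 hZ).2 P f hf
  exact ⟨g, hg.mono (sup_le_sup_left hR P), hge, fun r hr => hgZ r (hR hr)⟩

variable [Finite S] [Fact p.Prime]

/-- The automorphisms trivial modulo `T` and inner on `K ∩ T` come from `S`. -/
theorem innMod_le (hS : IsPGroup p S) (hF : F.IsSaturated p) {T K : Subgroup Ω} [Finite (MulAut K)]
    (hT : F.StronglyClosed T) (hK : F.IsFullyNormalized K) :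
    innMod T K ⊓ F.autGroup K ≤ autInducedBy S K := by
  haveI := finite_of_le hK.1
  haveI := finite_autGroup F hK.1
  obtain ⟨k, hk⟩ := IsPGroup.iff_card.1 (hS.to_le hK.1)
  obtain ⟨-, Sy, hSy⟩ := isFullyAutomized_of_isFullyNormalized hS hF hK
  set M := (innMod T K).subgroupOf (F.autGroup K) with hM
  haveI : M.Normal := ⟨fun α hα g => innMod_conj hK.1 hT g.2 hα⟩
  have hMp : IsPGroup p M := fun α => ⟨k + k, Subtype.ext (Subtype.ext (innMod_pow hk α.2))⟩
  rintro γ ⟨hγ, hγF⟩
  have h1 : (⟨γ, hγF⟩ : F.autGroup K) ∈ (Sy : Subgroup (F.autGroup K)) :=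
    hMp.le_sylow_of_normal Sy (Subgroup.mem_subgroupOf.2 hγ)
  rw [hSy] at h1
  exact h1

/-- An automorphism from a normal subsystem over `W` fixing `R ∩ W` extends to fix `R`. -/
theorem fix_of_fix_inf (hS : IsPGroup p S) (hG : G.IsNormalIn F p) (hR : F.StronglyClosed R)
    {P : Subgroup Ω} (hP : R ⊓ W ≤ P) (hPW : P ≤ W) {a : MulAut P} (ha : a ∈ G.autGroup P)
    (hco : (orderOf a).Coprime p) (hfix : ∀ z ∈ R ⊓ W, autMap a z = z) :
    Fixes F R P (autMap a) := by
  have hF := hG.1.2.1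
  have hW := hG.1.2.2.2.1
  have hinv := hG.1.2.2
  set R0 := R ⊓ W with hR0
  have hR0c : F.StronglyClosed R0 := Gen.closed_inf hR hW
  have hPS : P ≤ S := hPW.trans hW.1
  have hRN : R ≤ normalizerIn S P := fun r hr => by
    refine mem_normalizerIn.2 ⟨hR.1 hr, fun x => ?_⟩
    have key : ∀ r ∈ R, ∀ x ∈ P, r * x * r⁻¹ ∈ P := fun r hr x hx => by
      have h1 : r * x * r⁻¹ * x⁻¹ ∈ R0 := by
        refine ⟨?_, W.mul_mem (conj_mem_closed hW (hR.1 hr) (hPW hx)) (W.inv_mem (hPW hx))⟩
        rw [show r * x * r⁻¹ * x⁻¹ = r * (x * r⁻¹ * x⁻¹) by group]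
        exact R.mul_mem hr (conj_mem_closed hR (hPS hx) (R.inv_mem hr))
      have h2 := P.mul_mem (hP h1) hx
      rwa [inv_mul_cancel_right] at h2
    exact ⟨key r hr x, fun h => by simpa [mul_assoc] using key r⁻¹ (R.inv_mem hr) _ h⟩
  obtain ⟨Q, hPQ, hQn⟩ := exists_isFullyNormalized F hPS
  obtain ⟨g, hg, hgi, -⟩ := exists_map_to_fullyNormalized hS hF hQn hPQ
  haveI := finite_of_le hQn.1
  haveI := finite_mulAut_of_le hQn.1
  haveI : Finite R := finite_of_le hR.1
  haveI : Finite R0 := finite_of_le hR0c.1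
  have hQW : Q ≤ W := target_le_of_closed hW hPW hgi
  have hPN : P ≤ normalizerIn S P := le_normalizerIn_self hPS
  have hgR := (hg.mono hRN).image_eq_of_mapsTo fun r hr => mem_of_stronglyClosed hR hg (hRN hr) hr
  have hgR0 := (hg.mono (hP.trans hPN)).image_eq_of_mapsTo
    fun r hr => mem_of_stronglyClosed hR0c hg (hPN (hP hr)) hr
  set x := hgi.autEquiv a with hx
  have hxG : x ∈ G.autGroup Q := autEquiv_mem hinv hPW hgi ha
  have hxo : (orderOf x).Coprime p := by rwa [hx, MulEquiv.orderOf_eq]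
  have hR0Q : R0 ≤ Q := fun z hz => by
    obtain ⟨w, hw, rfl⟩ := hgR0.ge hz
    exact hgi.mem (hP hw)
  have hxfix : ∀ z ∈ R0, autMap x z = z := fun z hz => by
    obtain ⟨w, hw, rfl⟩ := hgR0.ge hz
    rw [hx, hgi.autMap_autEquiv a (hP hw), hfix w hw]
  have hRQ : ∀ r ∈ R, r ∈ Subgroup.normalizer (Q : Set Ω) := fun r hr => by
    obtain ⟨r₀, hr₀, rfl⟩ := hgR.ge hr
    exact (hgi.mem_normalizerIn_of_extends hg hPN (fun _ _ => rfl) (hRN hr₀) (hRN hr₀).2).2
  have hxF : x ∈ F.autGroup Q :=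
    mem_autGroup_of_isMap (isMap_of_sub hinv.1 ((mem_autGroup_iff hQW).1 hxG))
  set K := innMod R0 Q ⊓ F.autGroup Q with hK
  set Y : Subgroup (MulAut Q) := Inn Q ⊔ autInducedBy R Q ⊔ K with hY
  have hYS : Y ≤ autInducedBy S Q := sup_le (sup_le
    (by rw [inn_eq_autInducedBy_self]; exact autInducedBy_mono hQn.1) (autInducedBy_mono hR.1))
    (innMod_le hS hF hR0c hQn)
  have hxY : ∀ y ∈ Y, x * y * x⁻¹ ∈ Y := by
    have hle : Y ≤ Y.comap (MulAut.conj x).toMonoidHom := by
      refine sup_le (sup_le (inn_conj (le_sup_left.trans le_sup_left) x) fun c hc => ?_) fun k hk => ?_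
      · show x * c * x⁻¹ ∈ Y
        obtain ⟨r, hr, hrn, rfl⟩ := mem_autInducedBy.1 hc
        have hrF : conjAut hrn ∈ F.autGroup Q := conjAut_mem_autGroup F hQn.1 ⟨hR.1 hr, hrn⟩
        have hk : x * conjAut hrn * x⁻¹ * (conjAut hrn)⁻¹ ∈ K := by
          refine ⟨mem_innMod.2 ⟨fun y hy => ?_, 1, Q.one_mem, fun w hw hw0 => ?_⟩,
            Subgroup.mul_mem _ (Subgroup.mul_mem _ (Subgroup.mul_mem _ hxF hrF)
              (Subgroup.inv_mem _ hxF)) (Subgroup.inv_mem _ hrF)⟩
          · -- trivial modulo `R0`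
            have hc0 : ∀ z ∈ Q, z⁻¹ * autMap (conjAut hrn) z ∈ R0 := fun z hz => by
              rw [autMap_conjAut hrn hz, conjMap_apply]
              refine ⟨?_, W.mul_mem (W.inv_mem (hQW hz)) (conj_mem_closed hW (hR.1 hr) (hQW hz))⟩
              rw [show z⁻¹ * (r * z * r⁻¹) = z⁻¹ * r * z⁻¹⁻¹ * r⁻¹ by group]
              exact R.mul_mem (conj_mem_closed hR (S.inv_mem (hQn.1 hz)) hr) (R.inv_mem hr)
            set u := autMap (conjAut hrn)⁻¹ y with hu
            have hu' : u ∈ Q := autMap_mem _ hy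
            have hyu : y = autMap (conjAut hrn) u := by
              rw [hu, ← autMap_mul _ _ hy, mul_inv_cancel, FusionSys.autMap_one hy]
            set v := autMap x⁻¹ u with hv
            have hv' : v ∈ Q := autMap_mem _ hu'
            have huv : u = autMap x v := by
              rw [hv, ← autMap_mul _ _ hu', mul_inv_cancel, FusionSys.autMap_one hu']
            have he : autMap (x * conjAut hrn * x⁻¹ * (conjAut hrn)⁻¹) y =
                autMap x (autMap (conjAut hrn) v) := by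
              rw [autMap_mul _ _ hy, autMap_mul _ _ (autMap_mem _ hy), autMap_mul _ _ (autMap_mem _ (autMap_mem _ hy))]
            have hd : v⁻¹ * autMap (conjAut hrn) v ∈ R0 := hc0 v hv'
            have hd2 := hc0 u hu'
            have hcv := autMap_mem (conjAut hrn) hv'
            have hxm := (isIso_autMap hQn.1 hxF).isMap
            have e2 : autMap x (v⁻¹ * autMap (conjAut hrn) v) = v⁻¹ * autMap (conjAut hrn) v :=
              hxfix _ hd
            rw [hxm.map_mul (Q.inv_mem hv') hcv, hxm.map_inv hv', ← huv] at e2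
            rw [he, show autMap x (autMap (conjAut hrn) v) = u * (v⁻¹ * autMap (conjAut hrn) v) by
              rw [← e2, mul_inv_cancel_left]]
            rw [show y⁻¹ * (u * (v⁻¹ * autMap (conjAut hrn) v)) =
              (u⁻¹ * autMap (conjAut hrn) u)⁻¹ * (v⁻¹ * autMap (conjAut hrn) v) by rw [← hyu]; group]
            exact R0.mul_mem (R0.inv_mem hd2) hd
          · rw [show (1 : Ω) * w * 1⁻¹ = w by group]
            have h1 : autMap (conjAut hrn)⁻¹ w ∈ R0 := by
              have := mem_of_stronglyClosed hR0c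
                (isIso_autMap hQn.1 (Subgroup.inv_mem _ hrF)).isMap hw hw0
              exact this
            rw [autMap_mul _ _ hw, autMap_mul _ _ (autMap_mem _ hw),
              autMap_mul _ _ (autMap_mem _ (autMap_mem _ hw))]
            have h2 : autMap x⁻¹ (autMap (conjAut hrn)⁻¹ w) = autMap (conjAut hrn)⁻¹ w := by
              conv_lhs => rw [← hxfix _ h1]
              exact S5114.inv_autMap_apply x (autMap_mem _ hw)
            rw [h2, show autMap (conjAut hrn) (autMap (conjAut hrn)⁻¹ w) = w by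
              rw [← autMap_mul _ _ hw, mul_inv_cancel, FusionSys.autMap_one hw], hxfix w hw0]
        have := Y.mul_mem (Subgroup.mem_sup_right hk)
          (Subgroup.mem_sup_left (Subgroup.mem_sup_right hc))
        rwa [inv_mul_cancel_right] at this
      · show x * k * x⁻¹ ∈ Y
        exact Subgroup.mem_sup_right ⟨innMod_conj hQn.1 hR0c hxF hk.1,
          Subgroup.mul_mem _ (Subgroup.mul_mem _ hxF hk.2) (Subgroup.inv_mem _ hxF)⟩
    exact fun y hy => hle hy
  set M := nSub S Q Y with hM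
  obtain ⟨Gm, hGm, hGco, hGx, hGmod⟩ : ∃ Gm ∈ F.autGroup M, (orderOf Gm).Coprime p ∧
      (∀ q ∈ Q, autMap Gm q = autMap x q) ∧ ∀ m ∈ M, m⁻¹ * autMap Gm m ∈ W :=
    exists_ext_rel hS hG hQW hQn (le_sup_left.trans le_sup_left) hYS hxG hxo hxY
  have hMS : M ≤ S := nSub_le
  haveI := finite_of_le hMS
  haveI := finite_mulAut_of_le hMS
  have hGmm : IsMap F M (autMap Gm) := (mem_autGroup_iff hMS).1 hGm
  have hRM : R ≤ M := fun r hr => mem_nSub.2 ⟨⟨hR.1 hr, hRQ r hr⟩,
    Subgroup.mem_sup_left (Subgroup.mem_sup_right (mem_autInducedBy.2 ⟨r, hr, hRQ r hr, rfl⟩))⟩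
  have hQM : Q ≤ M := le_nSub hQn.1 (le_sup_left.trans le_sup_left)
  have hGR : ∀ r ∈ R, autMap Gm r = r := by
    intro r hr
    set z := r⁻¹ * autMap Gm r with hzdef
    have hz : z ∈ R0 := ⟨R.mul_mem (R.inv_mem hr) (mem_of_stronglyClosed hR hGmm (hRM hr) hr),
      hGmod r (hRM hr)⟩
    have hfixz : ∀ j : ℕ, autMap Gm (z ^ j) = z ^ j := fun j => by
      rw [hGx _ (hR0Q (R0.pow_mem hz j)), hxfix _ (R0.pow_mem hz j)]
    have key : ∀ j : ℕ, autMap (Gm ^ j) r = r * z ^ j := by
      intro j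
      induction j with
      | zero => rw [pow_zero, FusionSys.autMap_one (hRM hr), pow_zero, mul_one]
      | succ j ih =>
        rw [pow_succ', autMap_mul _ _ (hRM hr), ih,
          hGmm.map_mul (hRM hr) (hQM (hR0Q (R0.pow_mem hz j))), hfixz,
          show autMap Gm r = r * z by rw [hzdef, mul_inv_cancel_left], pow_succ', mul_assoc]
    have h1 := key (orderOf Gm)
    rw [pow_orderOf_eq_one, FusionSys.autMap_one (hRM hr)] at h1
    have h2 : z ^ orderOf Gm = 1 := mul_left_cancel (a := r) (h1.symm.trans (mul_one r).symm)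
    have hz1 : z ∈ (⊥ : Subgroup Ω) :=
      mem_of_pow_mem hS (hR0c.1 hz) hGco (by rw [h2]; exact one_mem _)
    rw [hzdef] at hz1
    exact (inv_mul_eq_one.1 (Subgroup.mem_bot.1 hz1)).symm
  have hgX : IsMap F (P ⊔ R) g := hg.mono (sup_le hPN hRN)
  have hin : ∀ y ∈ P ⊔ R, g y ∈ M := fun y hy => hgX.mapsTo_sup (C := M)
    (fun w hw => hQM (hgi.mem hw))
    (fun w hw => hRM (mem_of_stronglyClosed hR hg (hRN hw) hw)) hy
  obtain ⟨g', hg', hg'e⟩ := hg.exists_inv
  have hcomp : IsMap F (P ⊔ R) (autMap Gm ∘ g) := hgX.comp hGmm hin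
  have himg : ∀ y ∈ P ⊔ R, (autMap Gm ∘ g) y ∈ imgSub g (normalizerIn S P) := fun y hy =>
    hcomp.mapsTo_sup
      (fun w hw => hg.mem_imgSub.2 ⟨_, hPN (autMap_mem a hw), by
        rw [Function.comp_apply, hGx _ (hgi.mem hw), hx, hgi.autMap_autEquiv a hw]⟩)
      (fun w hw => hg.mem_imgSub.2 ⟨w, hRN hw, by
        rw [Function.comp_apply, hGR _ (mem_of_stronglyClosed hR hg (hRN hw) hw)]⟩) hy
  refine ⟨g' ∘ (autMap Gm ∘ g), hcomp.comp hg' himg, fun w hw => ?_, fun w hw => ?_⟩
  · rw [Function.comp_apply, Function.comp_apply, hGx _ (hgi.mem hw), hx, hgi.autMap_autEquiv a hw,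
      hg'e _ (hPN (autMap_mem a hw))]
  · rw [Function.comp_apply, Function.comp_apply,
      hGR _ (mem_of_stronglyClosed hR hg (hRN hw) hw), hg'e _ (hRN hw)]

variable {V : Subgroup Ω} {C : FusionSystem V}

/-- A system equal to its hyperfocal subgroup whose coprime automorphisms fix `R` centralizes `R`. -/
theorem fixes_all (hS : IsPGroup p S) (hR : F.StronglyClosed R) (hVS : V ≤ S) (hCs : C.IsSaturated p)
    (hhyp : C.hyperfocalSubgroup p = V)
    (h : ∀ (P : Subgroup Ω) (a : MulAut P), P ≤ V → a ∈ C.autGroup P → (orderOf a).Coprime p →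
      Fixes F R P (autMap a)) :
    V ≤ centralizerIn S R ∧ ∀ P f, IsMap C P f → Fixes F R P f := by
  haveI : Finite V := finite_of_le hVS
  have hcent : V ≤ centralizerIn S R := by
    rw [← hhyp]
    refine (Subgroup.closure_le _).2 ?_
    rintro _ ⟨P, α, x, hP, hα, rfl⟩
    haveI := finite_of_le hP
    haveI := finite_mulAut_of_le hP
    have hle : pResidual p (C.autGroup P) ≤
        (modGroup P (centralizerIn S R)).comap (C.autGroup P).subtype := by
      refine Cores.pResidual_le fun β hβ => mem_modGroup.2 fun y hy => ?_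
      obtain ⟨g, hg, hge, hgR⟩ := h P β hP β.2 (by rwa [Subgroup.orderOf_coe])
      have hyS : y ∈ S := hVS (hP hy)
      have hby : autMap (β : MulAut P) y ∈ S := hVS (hP (autMap_mem _ hy))
      refine FusionSys.mem_centralizerIn.2 ⟨S.mul_mem (S.inv_mem hyS) hby, fun r hr => ?_⟩
      have hc : y * r * y⁻¹ ∈ R := conj_mem_closed hR hyS hr
      have e : autMap (β : MulAut P) y * r * (autMap (β : MulAut P) y)⁻¹ = y * r * y⁻¹ := by
        rw [← hgR _ hc, hg.map_conj (Subgroup.mem_sup_left hy) (Subgroup.mem_sup_right hr), hge y hy,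
          hgR r hr]
      show r * (y⁻¹ * autMap (β : MulAut P) y) = y⁻¹ * autMap (β : MulAut P) y * r
      generalize autMap (β : MulAut P) y = u at e ⊢
      calc r * (y⁻¹ * u) = y⁻¹ * (y * r * y⁻¹) * u := by group
        _ = _ := by rw [← e]; group
    have := mem_modGroup.1 (hle hα) x x.2
    rwa [autMap_coe] at this
  refine ⟨hcent, fun P f hf => ?_⟩
  have hVp := hS.to_le hVS
  let C' : FusionSystem V := subSys C (fun P f => Fixes F R P f)
    (fun _ _ _ ⟨g, h1, h2, h3⟩ he => ⟨g, h1, fun x hx => (h2 x hx).trans (he x hx).symm, h3⟩)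
    (fun A a hA ha => ⟨conjMap a, isMap_conj F (sup_le (hA.trans hVS) hR.1) (hVS ha),
      fun _ _ => rfl, fun y hy => by
        rw [conjMap_apply, ← (FusionSys.mem_centralizerIn.1 (hcent ha)).2 y hy, mul_inv_cancel_right]⟩)
    (fun A B u v _ _ hm ⟨u', hu', hu'e, hu'Y⟩ ⟨v', hv', hv'e, hv'Y⟩ => by
      refine ⟨v' ∘ u', hu'.comp hv' fun x hx => ?_, fun x hx => ?_, fun y hy => ?_⟩
      · exact hu'.mapsTo_sup (fun z hz => Subgroup.mem_sup_left ((hu'e z hz).symm ▸ hm z hz))
          (fun z hz => Subgroup.mem_sup_right ((hu'Y z hz).symm ▸ hz)) hx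
      · rw [Function.comp_apply, Function.comp_apply, hu'e x hx, hv'e _ (hm x hx)]
      · rw [Function.comp_apply, hu'Y y hy, hv'Y y hy])
    (fun A B u v hu _ hinv' ⟨u', hu', hu'e, hu'Y⟩ => by
      obtain ⟨v', hv', hvu⟩ := hu'.exists_inv
      have hle : B ⊔ R ≤ imgSub u' (A ⊔ R) := by
        refine sup_le (fun z hz => ?_) fun z hz =>
          hu'.mem_imgSub.2 ⟨z, Subgroup.mem_sup_right hz, hu'Y z hz⟩
        obtain ⟨x, hx, rfl⟩ := hu.exists_preimage hz
        exact hu'.mem_imgSub.2 ⟨x, Subgroup.mem_sup_left hx, hu'e x hx⟩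
      refine ⟨v', hv'.mono hle, fun z hz => ?_, fun z hz => ?_⟩
      · obtain ⟨x, hx, rfl⟩ := hu.exists_preimage hz
        rw [hinv' x hx, ← hu'e x hx, hvu x (Subgroup.mem_sup_left hx)]
      · conv_lhs => rw [← hu'Y z hz]
        exact hvu z (Subgroup.mem_sup_right hz))
  suffices hle : C ≤ C' by
    obtain ⟨φ, ⟨-, g, hg, hge, hgY⟩, hφ⟩ := le_iff_isMap.1 hle P f hf
    exact ⟨g, hg, fun x hx => (hge x hx).trans ((homFun_mem φ hx).trans (hφ ⟨x, hx⟩)), hgY⟩
  refine le_of_autGroup_centricRadical hVp hCs fun Q hQn _ _ => ?_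
  have hQV : Q ≤ V := hQn.1
  haveI := finite_autGroup C hQV
  rw [← Subgroup.subgroupOf_eq_top]
  obtain ⟨-, Sy, hSy⟩ := isFullyAutomized_of_isFullyNormalized hVp hCs hQn
  refine eq_top_of_sylow_le _ Sy ?_ fun α hα => ?_
  · rw [hSy]
    exact fun γ hγ => autInducedBy_le_autGroup C' hQV hγ
  rw [Subgroup.mem_subgroupOf]
  obtain ⟨φ, hφ, hφe⟩ := (mem_autGroup_iff hQV).1 α.2
  obtain ⟨g, hg, hge, hgR⟩ := h Q α hQV α.2 (by rwa [Subgroup.orderOf_coe])
  exact mem_autGroup_of_isMap ⟨φ, ⟨hφ, g, hg,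
    fun x hx => (hge x hx).trans ((homFun_mem φ hx).trans (hφe ⟨x, hx⟩)).symm, hgR⟩, hφe⟩

/-- A component is supported in a given normal subsystem or centralizes its support. -/
theorem dichotomy (hS : IsPGroup p S) (hC : C.IsSubnormalIn F p) (hq : C.Quasisimple p)
    {N : FusionSystem R} (hN : N.IsNormalIn F p) :
    V ≤ R ∨ (V ≤ centralizerIn S R ∧ ∀ P f, IsMap C P f → Fixes F R P f) := by
  have main : ∀ {V S : Subgroup Ω} {C : FusionSystem V} {F : FusionSystem S} {p' : ℕ},
      C.IsSubnormalIn F p' → p' = p → C.Quasisimple p → Finite S → IsPGroup p S →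
        ∀ {R : Subgroup Ω} {N : FusionSystem R}, N.IsNormalIn F p →
          V ≤ R ∨ (V ≤ centralizerIn S R ∧ ∀ P f, IsMap C P f → Fixes F R P f) := by
    intro V S C F p' h
    induction h with
    | refl G p' =>
      intro hp hq hfin hS R N hN
      subst hp
      haveI := hfin
      rcases eq_top_or_le_center hS hq hN with rfl | hle
      · exact Or.inl le_rfl
      refine Or.inr ⟨fun v hv => FusionSys.mem_centralizerIn.2
        ⟨hv, fun r hr => (center_le_centralizer G (hle hr) v hv).symm⟩, fun P f hf => ?_⟩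
      exact fixes_of_central (isCentral_center G) hle hf
    | @step W S C G F p' hCG hGF ih =>
      intro hp hq hfin hS R N hN
      subst hp
      haveI := hfin
      have hWS := hGF.1.2.2.2.1.1
      haveI := finite_of_le hWS
      have hWp := hS.to_le hWS
      obtain ⟨M, ⟨-, -, hMG⟩, -⟩ := Gen.exists_meet hS hN hGF
      rcases ih rfl hq (finite_of_le hWS) hWp hMG with hle | ⟨hcent, hfix⟩
      · exact Or.inl (hle.trans inf_le_left)
      have hVW : V ≤ W := Gen.subnormal_le (ComponentFix.subnormal_sub hCG)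
      refine Or.inr (fixes_all hS hN.1.2.2.2.1 (hVW.trans hWS) hq.1 hq.2.1 fun P a hP ha hco => ?_)
      haveI : Finite P := finite_of_le (hP.trans (hVW.trans hWS))
      obtain ⟨g₀, hg₀, hg₀e, hg₀R⟩ := hfix P _ ((mem_autGroup_iff hP).1 ha)
      set P' := P ⊔ R ⊓ W with hP'
      have hP'W : P' ≤ W := sup_le (hP.trans hVW) inf_le_right
      have hmaps : ∀ y ∈ P', g₀ y ∈ P' := fun y hy => hg₀.mapsTo_sup
        (fun z hz => Subgroup.mem_sup_left ((hg₀e z hz).symm ▸ autMap_mem a hz))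
        (fun z hz => Subgroup.mem_sup_right ((hg₀R z hz).symm ▸ hz)) hy
      obtain ⟨k, b, hb, hg₁, hper, hagree⟩ := exists_pPrime_power (p := p') hg₀ hmaps
      haveI := finite_of_le (hP'W.trans hWS)
      haveI := finite_mulAut_of_le (hP'W.trans hWS)
      obtain ⟨a', ha', ha'e⟩ := (isIso_of_mapsTo hg₁ fun y hy =>
        H91.CentFocal.iterate_mem hmaps k hy).exists_aut
      have ha'co : (orderOf a').Coprime p' := Nat.Coprime.coprime_dvd_left
        (orderOf_dvd_of_pow_eq_one (aut_ext fun y hy => by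
          rw [← autMap_pow a' (fun z hz => (ha'e z hz).symm) b hy, hper y hy,
            FusionSys.autMap_one hy])) hb
      have ha'P : ∀ y ∈ P, autMap a' y = autMap a y := fun y hy => by
        rw [ha'e y (Subgroup.mem_sup_left hy), hagree y (Subgroup.mem_sup_left hy) _ hco (by
          rw [autMap_pow a hg₀e _ hy, pow_orderOf_eq_one, FusionSys.autMap_one hy]), hg₀e y hy]
      have ha'R : ∀ z ∈ R ⊓ W, autMap a' z = z := fun z hz => by
        rw [ha'e z (Subgroup.mem_sup_right hz), hagree z (Subgroup.mem_sup_right hz) 1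
          (Nat.coprime_one_left p') (by rw [Function.iterate_one, hg₀R z hz]), hg₀R z hz]
      obtain ⟨g, hg, hge, hgR⟩ := fix_of_fix_inf hS hGF hN.1.2.2.2.1 le_sup_right hP'W ha' ha'co ha'R
      exact ⟨g, hg.mono (sup_le_sup_right le_sup_left R),
        fun y hy => (hge y (Subgroup.mem_sup_left hy)).trans (ha'P y hy), hgR⟩
  exact main hC rfl hq inferInstance hS hN

end Cfsg.Agent.H89.Comp
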