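import Cfsg.Agent.H89.Comp.Dichotomy
import Cfsg.Agent.H89.ResidualNormal
import Cfsg.Agent.H59.ComponentImage

/-!
The layer of a normal subsystem is normal in the whole system.
-/

set_option autoImplicit false
set_option linter.style.haveILetI false
set_option linter.unusedSectionVars false

namespace Cfsg.Agent.H89.Comp

open Cfsg Cfsg.FusionSystem Cfsg.Agent.FusionSys Cfsg.Agent.H91.CentFocal
open Cfsg.Agent.H89.Prod (innMod mem_innMod innMod_conj)
open Cfsg.Agent.H89.Lift (tw tw_apply nSub mem_nSub nSub_le le_nSub inn_conj)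
open Cfsg.Agent.H89.Gen (modGroup mem_modGroup modGroup_conj mem_of_periodic)
open Cfsg.Agent.H59.Transp (imgSys isMap_imgSys isNormalIn_img exists_component_img invariant_autEquiv)
open Cfsg.FusionSystem (centralizerIn normalizerIn)

variable {Ω : Type*} [Group Ω] {S U T : Subgroup Ω} {F : FusionSystem S} {G : FusionSystem U}
  {E : FusionSystem T} {p : ℕ} [Finite S] [Fact p.Prime]

/-- The layer is carried to itself by the automorphisms of the system. -/
theorem layer_tw (hS : IsPGroup p S) (hE : E.IsLayerOf G p) (hGF : G.IsNormalIn F p) {α : MulAut U}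
    (hα : α ∈ F.autGroup U) {P : Subgroup Ω} {f : Ω → Ω} (hf : IsMap E P f) :
    IsMap E (imgSub (autMap α) P) (tw α f) := by
  have hUS : U ≤ S := hGF.1.2.2.2.1.1
  haveI : Finite U := finite_of_le hUS
  have hUp := hS.to_le hUS
  obtain ⟨j, hj⟩ := invariant_autEquiv hGF.1.2.2 (Subgroup.inv_mem _ hα)
  have hTU : T ≤ U := hE.1.1.2.2.2.1.1
  have hbwd : ∀ y ∈ U, j.bwd y = autMap α y := fun y hy => by
    conv_lhs => rw [← S5114.inv_autMap_apply α hy]
    rw [← hj, j.bwd_fwd _ (autMap_mem α hy)]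
  have hmin : E.IsSubsystemOf (imgSys j hE.1.1.2.2.1) := by
    refine hE.2.2 _ _ (isNormalIn_img j hUp hE.1) fun V C hC => ?_
    refine isSubsystemOf_iff_isMap.2 fun P g hg => ?_
    obtain ⟨R, C', hC', j', hj'⟩ := exists_component_img j.symm hUp hC
    have hVU : V ≤ U := H59.Transp.subnormal_le hC.1
    have h1 := isMap_of_sub (hE.2.1 R C' hC') (j'.hom P g hg)
    have hb : ∀ y ∈ imgTo j'.fwd P, j'.bwd y = j.fwd y := fun y hy => by
      obtain ⟨x, hx, rfl⟩ := (j'.mem_img hg.le).1 hy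
      rw [j'.bwd_fwd x (hg.le hx)]
      show x = j.fwd (j'.fwd x)
      rw [hj']
      exact (j.fwd_bwd x (hVU (hg.le hx))).symm
    have h2 : IsMap E (j.symm.img P) (j.bwd ∘ g ∘ j.fwd) := by
      show IsMap E (imgTo j.bwd P) _
      rw [show (j.bwd : Ω → Ω) = j'.fwd from hj'.symm]
      exact h1.congr fun y hy => by
        show j'.fwd (g (j.fwd y)) = j'.fwd (g (j'.bwd y))
        rw [hb y hy]
    have h3 := isMap_imgSys j hE.1.1.2.2.1 h2
    rw [H59.Transp.img_symm_img j (hg.le.trans hVU)] at h3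
    refine h3.congr fun x hx => ?_
    have hxU := hVU (hg.le hx)
    show g x = j.fwd (j.bwd (g (j.fwd (j.bwd x))))
    rw [j.fwd_bwd x hxU, j.fwd_bwd _ (hVU (hg.mem_S hx))]
  have hm := H59.Transp.isMap_of_imgSys j hE.1.1.2.2.1 (isMap_of_sub hmin hf)
  have hPU : P ≤ U := hf.le.trans hTU
  have himg : j.symm.img P = imgSub (autMap α) P := H59.Transp.imgTo_congr fun x hx => hbwd x (hPU hx)
  rw [himg] at hm
  refine hm.congr fun y hy => ?_
  obtain ⟨x, hx, rfl⟩ := ((mem_autGroup_iff hUS).1 hα |>.mono hPU).mem_imgSub.1 hy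
  show tw α f (autMap α x) = j.bwd (f (j.fwd (autMap α x)))
  rw [tw_apply α f (hPU hx), show j.fwd (autMap α x) = x by rw [hj, S5114.inv_autMap_apply α (hPU hx)],
    hbwd _ (hTU (hf.mem_S hx))]

/-- The layer of a normal subsystem is normal in the whole system. -/
theorem layer_normal (hS : IsPGroup p S) (hGF : G.IsNormalIn F p) (hE : E.IsLayerOf G p) :
    E.IsNormalIn F p := by
  have hF := hGF.1.2.1
  have hUc := hGF.1.2.2.2.1
  have hUS : U ≤ S := hUc.1
  have hEG := hE.1
  have hTU : T ≤ U := hEG.1.2.2.2.1.1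
  have hTS : T ≤ S := hTU.trans hUS
  haveI : Finite U := finite_of_le hUS
  haveI : Finite T := finite_of_le hTS
  have hUp := hS.to_le hUS
  have hsub : E.IsSubsystemOf F :=
    isSubsystemOf_iff_isMap.2 fun P f hf => isMap_of_sub hGF.1.2.2.1 (isMap_of_sub hEG.1.2.2.1 hf)
  have hαT : ∀ α ∈ F.autGroup U, ∀ x ∈ T, autMap α x ∈ T := fun α hα x hx => by
    have h1 : IsMap E T id := isMap_id E le_rfl
    have h2 := (layer_tw hS hE hGF hα h1).le
    exact h2 (((mem_autGroup_iff hUS).1 hα |>.mono hTU).mem_imgSub.2 ⟨x, hx, rfl⟩)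
  have hfr : ∀ P f, P ≤ T → IsMap F P f → ∃ α ∈ F.autGroup U, ∃ β ∈ G.autGroup T, ∃ h,
      IsMap E P h ∧ ∀ x ∈ P, f x = autMap α (autMap β (h x)) := fun P f hP hf => by
    obtain ⟨α, hα, g, hg, hge⟩ := frattini_map hGF.1.2.2 (hP.trans hTU) hf
    obtain ⟨β, hβ, h, hh, hhe⟩ := frattini_map hEG.1.2.2 hP hg
    exact ⟨α, hα, β, hβ, h, hh, fun x hx => by rw [hge x hx, hhe x hx]⟩
  have hclosed : F.StronglyClosed T := stronglyClosed_iff.2 ⟨hTS, fun P f hP hf x hx => by
    obtain ⟨α, hα, β, hβ, h, hh, he⟩ := hfr P f hP hf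
    rw [he x hx]
    exact hαT α hα _ (autMap_mem β (hh.mem_S hx))⟩
  have hinv : E.IsInvariantIn F := by
    refine H59.Transp.isInvariant_iff_isMap.2 ⟨hsub, hclosed, fun P f hf a ha => ?_, fun P f hP hf => ?_⟩
    · have ham : IsMap F T (autMap a) := (mem_autGroup_iff hTS).1 ha
      obtain ⟨α, hα, g, hg, hge⟩ := frattini_map hGF.1.2.2 hTU ham
      obtain ⟨β, hβ, hβe⟩ := (isIso_of_mapsTo hg fun x hx =>
        (stronglyClosed_iff.1 hEG.1.2.2.2.1).2 T g le_rfl hg x hx).exists_aut
      have h1 := Gen.tw_invariant hEG.1.2.2 hEG.1.2.2.2.1 le_rfl hβ hf.le hf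
      have h2 := layer_tw hS hE hGF hα h1
      have hβm : IsMap G T (autMap β) := (mem_autGroup_iff hTU).1 hβ
      have hαm : IsMap F U (autMap α) := (mem_autGroup_iff hUS).1 hα
      have hPT := hf.le
      have hle : imgSub (autMap a) P ≤ imgSub (autMap α) (imgSub (autMap β) P) := fun y hy => by
        obtain ⟨x, hx, rfl⟩ := (ham.mono hPT).mem_imgSub.1 hy
        refine (hαm.mono fun z hz => ?_).mem_imgSub.2 ⟨autMap β x,
          (hβm.mono hPT).mem_imgSub.2 ⟨x, hx, rfl⟩, ?_⟩
        · obtain ⟨w, hw, rfl⟩ := (hβm.mono hPT).mem_imgSub.1 hz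
          exact hTU (autMap_mem β (hPT hw))
        · rw [hge x (hPT hx), hβe x (hPT hx)]
      refine (h2.mono hle).congr fun y hy => ?_
      obtain ⟨x, hx, rfl⟩ := (ham.mono hPT).mem_imgSub.1 hy
      show autMap a (f (autMap a⁻¹ (autMap a x))) = _
      rw [S5114.inv_autMap_apply a (hPT hx), hge _ (hf.mem_S hx), hge x (hPT hx),
        ← hβe _ (hf.mem_S hx), ← hβe x (hPT hx), tw_apply α _ (hTU (autMap_mem β (hPT hx))),
        tw_apply β f (hPT hx)]
    · obtain ⟨α, hα, β, hβ, h, hh, he⟩ := hfr P f hP hf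
      have hαm : IsMap F T (autMap α) := ((mem_autGroup_iff hUS).1 hα).mono hTU
      have hβm : IsMap F T (autMap β) := isMap_of_sub hGF.1.2.2.1 ((mem_autGroup_iff hTU).1 hβ)
      have hc : IsMap F T (autMap α ∘ autMap β) := hβm.comp hαm fun x hx => autMap_mem β hx
      obtain ⟨γ, hγ, hγe⟩ := (isIso_of_mapsTo hc fun x hx => hαT α hα _ (autMap_mem β hx)).exists_aut
      exact ⟨γ, hγ, h, hh, fun x hx => by rw [he x hx, hγe _ (hh.mem_S hx)]; rfl⟩
  refine ⟨⟨hEG.1.1, hF, hinv⟩, fun α hα => ?_⟩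
  have hext : α ∈ ResidualNormal.extSub hinv.2.1 := by
    haveI := finite_autGroup E (le_refl T)
    haveI := finite_mulAut_of_le (le_refl T)
    have hTp := hS.to_le hTS
    have hTn : E.IsFullyNormalized T := ⟨le_rfl, fun R hR => by rw [eq_S_of_isConj hR]⟩
    have hsy := isSylowIn_of_fullyAutomized hTp
      (isFullyAutomized_of_isFullyNormalized hTp hEG.1.1 hTn)
    suffices htop : (ResidualNormal.extSub hinv.2.1).subgroupOf (E.autGroup T) = ⊤ from
      htop.ge (Subgroup.mem_top (⟨α, hα⟩ : E.autGroup T))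
    refine top_le_iff.1 ((Fusion.sylow_sup_pResidual hsy.toSylow).ge.trans (sup_le (fun y hy => ?_) ?_))
    · rw [hsy.coe_toSylow] at hy
      exact ResidualNormal.autInduced_le_extSub hinv.2.1 (Subgroup.mem_subgroupOf.1 hy)
    refine Cores.pResidual_le fun y hy => ?_
    have hyp : (orderOf (y : MulAut T)).Coprime p := by rwa [Subgroup.orderOf_coe]
    set Q := T ⊔ centralizerIn U T with hQ
    have hQU : Q ≤ U := sup_le hTU centralizerIn_le
    have hQS : Q ≤ S := hQU.trans hUS
    obtain ⟨β, hβ, hβT, hβc⟩ : ∃ β ∈ G.autGroup Q,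
        (∀ x : T, ((β (Subgroup.inclusion le_sup_left x) : Q) : Ω) = (y : MulAut T) x) ∧
        ∀ c : Q, (c : Ω) ∈ centralizerIn U T →
          (c : Ω)⁻¹ * β c ∈ T ⊓ Subgroup.centralizer (T : Set Ω) := hEG.2 y y.2
    have hβm : IsMap G Q (autMap β) := (mem_autGroup_iff hQU).1 hβ
    obtain ⟨k, b, hb, hB, hper, hfix⟩ := exists_pPrime_power (p := p) hβm fun x hx => autMap_mem β hx
    haveI := finite_of_le hQS
    haveI := finite_mulAut_of_le hQS
    obtain ⟨x, hx, hxe⟩ := (isIso_of_mapsTo hB fun z hz =>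
      H91.CentFocal.iterate_mem (fun w hw => autMap_mem β hw) k hz).exists_aut
    have hxo : (orderOf x).Coprime p := Nat.Coprime.coprime_dvd_left
      (orderOf_dvd_of_pow_eq_one (aut_ext fun z hz => by
        rw [← autMap_pow x (fun w hw => (hxe w hw).symm) b hz, hper z hz, FusionSys.autMap_one hz])) hb
    have hβ1 : ∀ z ∈ T, autMap β z = autMap (y : MulAut T) z := fun z hz => by
      rw [autMap_apply β (Subgroup.mem_sup_left hz), autMap_apply _ hz]
      exact hβT ⟨z, hz⟩
    have hxT : ∀ t ∈ T, autMap x t = autMap (y : MulAut T) t := fun t ht => by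
      rw [hxe t (Subgroup.mem_sup_left ht), hfix t (Subgroup.mem_sup_left ht) _ hyp (by
        rw [autMap_pow _ hβ1 _ ht, pow_orderOf_eq_one, FusionSys.autMap_one ht]), hβ1 t ht]
    have hnT : Q ≤ Subgroup.normalizer (T : Set Ω) := fun s hs => mem_normalizer_of_maps fun t ht =>
      conj_mem_closed hclosed (hQS hs) ht
    have hxmod : ∀ q ∈ Q, q⁻¹ * autMap x q ∈ T := fun q hq => by
      have hm : IsMap G Q (autMap x) := (mem_autGroup_iff hQU).1 hx
      refine mod_of_sup hm hnT
        (fun t ht => T.mul_mem (T.inv_mem ht) (hxT t ht ▸ autMap_mem _ ht)) (fun c hc => ?_) hq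
      rw [hxe c (Subgroup.mem_sup_right hc)]
      refine iterate_mod (fun w hw => ResidualNormal.map_cent_top hEG.1.2.2.2.1 hβm hw)
        (fun w hw => ?_) k hc
      rw [autMap_apply β (Subgroup.mem_sup_right hw)]
      exact (hβc ⟨w, Subgroup.mem_sup_right hw⟩ hw).1
    have hxF : x ∈ F.autGroup Q :=
      mem_autGroup_of_isMap (isMap_of_sub hGF.1.2.2.1 ((mem_autGroup_iff hQU).1 hx))
    have hSQ : S ≤ Subgroup.normalizer (Q : Set Ω) := fun s hs => mem_normalizer_of_maps fun q hq => by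
      have := (isMap_conj F hQS hs).mapsTo_sup (C := Q)
        (fun t ht => Subgroup.mem_sup_left (by rw [conjMap_apply]; exact conj_mem_closed hclosed hs ht))
        (fun c hc => Subgroup.mem_sup_right (by
          rw [conjMap_apply]
          obtain ⟨hcU, hcc⟩ := FusionSys.mem_centralizerIn.1 hc
          refine FusionSys.mem_centralizerIn.2 ⟨conj_mem_closed hUc hs hcU, fun t ht => ?_⟩
          have h1 := hcc (s⁻¹ * t * s) (by simpa using conj_mem_closed hclosed (S.inv_mem hs) ht)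
          calc t * (s * c * s⁻¹) = s * (s⁻¹ * t * s * c) * s⁻¹ := by group
            _ = s * (c * (s⁻¹ * t * s)) * s⁻¹ := by rw [h1]
            _ = _ := by group)) hq
      rwa [conjMap_apply] at this
    haveI : Finite (normalizerIn S Q : Subgroup Ω) := finite_of_le fun z hz => (mem_normalizerIn.1 hz).1
    have hQn : F.IsFullyNormalized Q := ⟨hQS, fun R hR => Subgroup.card_le_of_le
      (fun z hz => mem_normalizerIn.2 ⟨(mem_normalizerIn.1 hz).1,
        Subgroup.mem_normalizer_iff.1 (hSQ (mem_normalizerIn.1 hz).1)⟩)⟩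
    set C := centralizerIn S T with hC
    set K := innMod T Q ⊓ F.autGroup Q with hK
    set Y : Subgroup (MulAut Q) := Inn Q ⊔ autInducedBy C Q ⊔ K with hY
    have hYS : Y ≤ autInducedBy S Q := sup_le (sup_le
      (by rw [inn_eq_autInducedBy_self]; exact autInducedBy_mono hQS)
      (autInducedBy_mono centralizerIn_le)) (innMod_le hS hF hclosed hQn)
    have hle : Y ≤ Y.comap (MulAut.conj x).toMonoidHom := by
      refine sup_le (sup_le (inn_conj (le_sup_left.trans le_sup_left) x) fun c hc => ?_) fun k' hk => ?_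
      · show x * c * x⁻¹ ∈ Y
        obtain ⟨r, hr, hrn, rfl⟩ := mem_autInducedBy.1 hc
        have hrS : r ∈ S := centralizerIn_le hr
        have hrF : conjAut hrn ∈ F.autGroup Q := conjAut_mem_autGroup F hQS ⟨hrS, hrn⟩
        have hk : x * conjAut hrn * x⁻¹ * (conjAut hrn)⁻¹ ∈ K := by
          have hxm : x ∈ modGroup Q T := mem_modGroup.2 hxmod
          have hcm : conjAut hrn * x⁻¹ * (conjAut hrn)⁻¹ ∈ modGroup Q T :=
            modGroup_conj hQS hrF (fun z hz hzT => by
              rw [autMap_conjAut hrn hz, conjMap_apply]; exact conj_mem_closed hclosed hrS hzT)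
              (Subgroup.inv_mem _ hxm)
          refine ⟨mem_innMod.2 ⟨fun z hz => ?_, 1, Q.one_mem, fun w hw hwT => ?_⟩,
            Subgroup.mul_mem _ (Subgroup.mul_mem _ (Subgroup.mul_mem _ hxF hrF)
              (Subgroup.inv_mem _ hxF)) (Subgroup.inv_mem _ hrF)⟩
          · have := mem_modGroup.1 (Subgroup.mul_mem _ hxm hcm) z hz
            rwa [← mul_assoc, ← mul_assoc] at this
          · rw [show (1 : Ω) * w * 1⁻¹ = w by group]
            have hcfix : ∀ t ∈ T, autMap (conjAut hrn) t = t := fun t ht => by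
              rw [autMap_conjAut hrn (Subgroup.mem_sup_left ht), conjMap_apply,
                ← (FusionSys.mem_centralizerIn.1 hr).2 t ht, mul_inv_cancel_right]
            have h1 : autMap (conjAut hrn)⁻¹ w = w := by
              conv_lhs => rw [← hcfix w hwT]
              exact S5114.inv_autMap_apply _ hw
            have h2 : autMap x⁻¹ w ∈ T := by
              refine mem_of_stronglyClosed hclosed (isIso_autMap hQS (Subgroup.inv_mem _ hxF)).isMap hw hwT
            rw [autMap_mul _ _ hw, autMap_mul _ _ (autMap_mem _ hw), h1, autMap_mul _ _ (autMap_mem _ hw),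
              hcfix _ h2, ← autMap_mul _ _ hw, mul_inv_cancel, FusionSys.autMap_one hw]
        have := Y.mul_mem (Subgroup.mem_sup_right hk)
          (Subgroup.mem_sup_left (Subgroup.mem_sup_right hc))
        rwa [inv_mul_cancel_right] at this
      · show x * k' * x⁻¹ ∈ Y
        exact Subgroup.mem_sup_right ⟨innMod_conj hQS hclosed hxF hk.1,
          Subgroup.mul_mem _ (Subgroup.mul_mem _ hxF hk.2) (Subgroup.inv_mem _ hxF)⟩
    set M := nSub S Q Y with hM
    obtain ⟨Gm, hGm, hGco, hGx, hGmod⟩ : ∃ Gm ∈ F.autGroup M, (orderOf Gm).Coprime p ∧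
        (∀ q ∈ Q, autMap Gm q = autMap x q) ∧ ∀ m ∈ M, m⁻¹ * autMap Gm m ∈ U :=
      exists_ext_rel hS hGF hQU hQn (le_sup_left.trans le_sup_left) hYS hx hxo fun z hz => hle hz
    have hMS : M ≤ S := nSub_le
    have hGmm : IsMap F M (autMap Gm) := (mem_autGroup_iff hMS).1 hGm
    have hQM : Q ≤ M := le_nSub hQS (le_sup_left.trans le_sup_left)
    have hCM : C ≤ M := fun c hc => mem_nSub.2 ⟨⟨centralizerIn_le hc, hSQ (centralizerIn_le hc)⟩,
      Subgroup.mem_sup_left (Subgroup.mem_sup_right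
        (mem_autInducedBy.2 ⟨c, hc, hSQ (centralizerIn_le hc), rfl⟩))⟩
    have hX : T ⊔ C ≤ M := sup_le (le_sup_left.trans hQM) hCM
    refine ⟨autMap Gm, hGmm.mono hX, fun t ht => ?_, fun c hc => ?_⟩
    · rw [hGx t (Subgroup.mem_sup_left ht), hxT t ht]
      rfl
    · have hGc : autMap Gm c ∈ C := ResidualNormal.map_cent_top hclosed (hGmm.mono hX) hc
      have hzQ : c⁻¹ * autMap Gm c ∈ Q := Subgroup.mem_sup_right (FusionSys.mem_centralizerIn.2
        ⟨hGmod c (hCM hc), (FusionSys.mem_centralizerIn.1 (C.mul_mem (C.inv_mem hc) hGc)).2⟩)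
      exact mem_of_periodic hS hclosed hMS hQM hGm hGco
        (fun q hq => (hGx q hq).symm ▸ autMap_mem x hq) (fun q hq => by rw [hGx q hq]; exact hxmod q hq)
        (hCM hc) (Subgroup.mem_sup_right hzQ)
  obtain ⟨b, hb, hbT, hbc⟩ := hext
  haveI : Finite (T ⊔ centralizerIn S T : Subgroup Ω) := finite_of_le hb.le
  obtain ⟨β, hβ, hβe⟩ := (isIso_of_mapsTo hb fun y hy =>
    ResidualNormal.maps_top hclosed hb hy).exists_aut
  refine ⟨β, hβ, fun x => ?_, fun c hc => ?_⟩
  · rw [← autMap_coe β, Subgroup.coe_inclusion, hβe _ (Subgroup.mem_sup_left x.2), hbT x x.2, autMap_coe]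
  · rw [← autMap_coe β, hβe _ c.2]
    exact ⟨hbc _ hc, Subgroup.mul_mem _
      (Subgroup.inv_mem _ (FusionSys.mem_centralizerIn.1 hc).2)
      (FusionSys.mem_centralizerIn.1 (ResidualNormal.map_cent_top hclosed hb hc)).2⟩

end Cfsg.Agent.H89.Comp
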