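import Cfsg.Agent.H89.Comp.LayerChar
import Cfsg.Agent.H89.Prod.FactorNormal
import Cfsg.Agent.H89.FStar.SelfCent

/-!
Components are normal in the layer.
-/

set_option autoImplicit false
set_option linter.style.haveILetI false
set_option linter.unusedSectionVars false

namespace Cfsg.Agent.H89.Comp

open Cfsg Cfsg.FusionSystem Cfsg.Agent.FusionSys Cfsg.Agent.H91.CentFocal
open Cfsg.Agent.H91 (centSys centralizerHom_iff)
open Cfsg.FusionSystem (centralizerIn normalizerIn)

variable {Ω : Type*} [Group Ω] {S : Subgroup Ω}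

/-- Systems contained in each other are equal. -/
theorem sub_antisymm {A B : Subgroup Ω} {X : FusionSystem A} {Y : FusionSystem B}
    (h : X.IsSubsystemOf Y) (h' : Y.IsSubsystemOf X) {q : ∀ {R : Subgroup Ω}, FusionSystem R → Prop}
    (hY : q Y) : q X := by
  obtain rfl : A = B := le_antisymm (Gen.subnormal_le h) (Gen.subnormal_le h')
  rwa [show X = Y from ext_hom fun P => Set.Subset.antisymm (h P) (h' P)]

variable [Finite S] {F : FusionSystem S} {p : ℕ} [Fact p.Prime]

/-- The largest subgroup centralizing a normal subsystem. -/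
theorem exists_max_centralized {T : Subgroup Ω} {E : FusionSystem T} (hS : IsPGroup p S)
    (hF : F.IsSaturated p) (hE : E.IsNormalIn F p) :
    ∃ Y, Y ≤ centralizerIn S T ∧ (∀ P : Subgroup Ω, E.Hom P ⊆ F.centralizerHom Y P) ∧
      ∀ Y' : Subgroup Ω, Y' ≤ centralizerIn S T →
        (∀ P : Subgroup Ω, E.Hom P ⊆ F.centralizerHom Y' P) → Y' ≤ Y := by
  set W := Subgroup.closure {x | H91.CentSE.Good F E x}
  have hWC : W ≤ centralizerIn S T :=
    (Subgroup.closure_le _).2 fun y (hy : H91.CentSE.Good F E y) => hy.1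
  have hWS : W ≤ S := hWC.trans centralizerIn_le
  have hT := hE.1.2.2.2.1
  refine ⟨W, hWC, fun P φ hφ => ?_, fun Y' hY' hh y hy => ?_⟩
  · have hm := isMap_of_mem hφ
    obtain ⟨g, hg, hge, hgW⟩ : ∃ g, IsMap F (P ⊔ W) g ∧ (∀ x ∈ P, g x = homFun φ x) ∧
        ∀ y ∈ W, g y = y := H91.CentSE.exists_fixing_good hS hF hE hm
    have hTC : T ≤ centralizerIn S W := fun u hu => FusionSys.mem_centralizerIn.2
      ⟨hT.1 hu, fun y hy => ((FusionSys.mem_centralizerIn.1 (hWC hy)).2 u hu).symm⟩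
    exact mem_hom_of_isMap (F := centSys F hWS)
      ((isMap_centSys_iff hWS).2 ⟨fun x hx => hTC (hm.le hx), fun x hx => hTC (hm.mem_S hx),
        g, hg, hge, hgW⟩) fun x => (homFun_coe φ x).symm
  · refine Subgroup.subset_closure ⟨hY' hy, fun P f hf => ?_⟩
    obtain ⟨φ, hφ, hφf⟩ := hf
    obtain ⟨-, -, g, hg, hge, hgY⟩ := (centralizerHom_iff F).1 (hh P hφ)
    exact ⟨g, hg.mono (sup_le_sup_left (Subgroup.zpowers_le.2 hy) P),
      fun z hz => (hge ⟨z, hz⟩).trans (hφf ⟨z, hz⟩), hgY y hy⟩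

/-- A component whose maps fix `T` lies over the focal subgroup of `C_F(T)`. -/
theorem le_focal {T V : Subgroup Ω} {C : FusionSystem V} (hTS : T ≤ S)
    (hhyp : C.hyperfocalSubgroup p = V) (hcent : V ≤ centralizerIn S T)
    (hfix : ∀ P f, IsMap C P f → Fixes F T P f) : V ≤ (centSys F hTS).focalSubgroup := by
  rw [← hhyp]
  refine (Subgroup.closure_le _).2 ?_
  rintro _ ⟨P, α, x, hP, -, rfl⟩
  haveI : Finite V := finite_of_le (hcent.trans centralizerIn_le)
  obtain ⟨g, hg, hge, hgT⟩ := hfix P _ ((mem_autGroup_iff hP).1 α.2)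
  obtain ⟨ψ, hψ, hψe⟩ : IsMap (centSys F hTS) P (autMap (α : MulAut P)) :=
    (isMap_centSys_iff hTS).2 ⟨hP.trans hcent, fun z hz => hcent (hP (autMap_mem _ hz)),
      g, hg, hge, hgT⟩
  refine Subgroup.subset_closure ⟨P, ψ, x, hψ, ?_⟩
  rw [hψe x, autMap_coe]

/-- A component is a normal subsystem of the layer. -/
theorem component_normal_layer (hS : IsPGroup p S) {V : Subgroup Ω} {C : FusionSystem V}
    (hC : C.IsComponentIn F p) {T : Subgroup Ω} {E : FusionSystem T} (hE : E.IsLayerOf F p) :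
    C.IsNormalIn E p := by
  have main : ∀ {V S : Subgroup Ω} {C : FusionSystem V} {F : FusionSystem S} {p' : ℕ},
      C.IsSubnormalIn F p' → p' = p → C.Quasisimple p → Finite S → IsPGroup p S →
        ∀ {T : Subgroup Ω} {E : FusionSystem T}, E.IsLayerOf F p → C.IsNormalIn E p := by
    intro V S C F p' h
    induction h with
    | refl G p' =>
      intro hp hq hfin hS T E hE
      subst hp
      haveI := hfin
      exact sub_antisymm (q := fun {R} X => G.IsNormalIn X p') hE.1.1.2.2.1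
        (hE.2.1 _ G ⟨.refl G p', hq⟩) (Gen.isNormalIn_self hq.1)
    | @step W S C G F p' hCG hGF ih =>
      intro hp hq hfin hS T E hE
      subst hp
      haveI := hfin
      have hF : F.IsSaturated p' := hGF.1.2.1
      have hWS := hGF.1.2.2.2.1.1
      haveI := finite_of_le hWS
      have hWp := hS.to_le hWS
      obtain ⟨T₁, E₁, hE₁⟩ := Gen.exists_layer hWp hGF.1.1
      have hCE₁ := ih rfl hq (finite_of_le hWS) hWp hE₁
      have h1F := layer_normal hS hGF hE₁
      have hcompF : ∀ (X : Subgroup Ω) (C' : FusionSystem X), C'.IsComponentIn G p' →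
          C'.IsComponentIn F p' := fun X C' hC' => ⟨.step hC'.1 hGF, hC'.2⟩
      have hsub : E₁.IsSubsystemOf E := by
        obtain ⟨M, ⟨hM, hME, hMG⟩, -⟩ := Gen.exists_meet hS hE.1 hGF
        have := hE₁.2.2 _ M hMG fun X C' hC' => Gen.component_le (hcompF X C' hC').1 hC'.2 hS hF hM
          (le_inf (Gen.subnormal_le (hE.2.1 X C' (hcompF X C' hC')))
            (Gen.subnormal_le (ComponentFix.subnormal_sub hC'.1)))
        exact fun P => (this P).trans (hME.1.2.2.1 P)
      have hE₁E : E₁.IsNormalIn E p' := by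
        obtain ⟨M₁, ⟨hM₁, hM₁₁, hM₁E⟩, -⟩ := Gen.exists_meet hS h1F hE.1
        obtain ⟨M₂, ⟨hM₂, hM₂₁, hM₂G⟩, -⟩ := Gen.exists_meet hS hM₁ hGF
        have hle : E₁.IsSubsystemOf M₂ := hE₁.2.2 _ M₂ hM₂G fun X C' hC' =>
          Gen.component_le (hcompF X C' hC').1 hC'.2 hS hF hM₂
            (le_inf (le_inf (Gen.subnormal_le (hE₁.2.1 X C' hC'))
              (Gen.subnormal_le (hE.2.1 X C' (hcompF X C' hC'))))
              (Gen.subnormal_le (ComponentFix.subnormal_sub hC'.1)))
        exact sub_antisymm (q := fun {R} X => X.IsNormalIn E p')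
          (fun P => (hle P).trans (hM₂₁.1.2.2.1 P)) hM₁₁.1.2.2.1 hM₁E
      have hT₁ := h1F.1.2.2.2.1
      obtain ⟨Y, hY, hEY, hmax⟩ := exists_max_centralized hS hF h1F
      obtain ⟨hYc, hfoc⟩ := CentE.closed_of_max hS hF h1F hY hEY hmax
      obtain ⟨N, hN, hNT⟩ := CentE.exists_normal hS hF hT₁ hYc hY hfoc
      obtain ⟨M, ⟨hM, hME, hMN⟩, -⟩ := Gen.exists_meet hS hE.1 hN
      have h : Prod.Ctx p' F E₁ M :=
        ⟨hS, hF, h1F, hM, fun a ha b hb => (FusionSys.mem_centralizerIn.1 (hY hb.2)).2 a ha,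
          fun P f hf => by
            obtain ⟨φ, hφ, hφf⟩ := hf
            obtain ⟨-, -, g, hg, hge, hgY⟩ := (centralizerHom_iff F).1 (hEY P hφ)
            exact ⟨g, hg.mono (sup_le_sup_left inf_le_right P),
              fun z hz => (hge ⟨z, hz⟩).trans (hφf ⟨z, hz⟩), fun y hy => hgY y hy.2⟩,
          fun P f hf => by
            obtain ⟨φ, hφ, hφf⟩ := isMap_of_sub hMN.1.2.2.1 hf
            obtain ⟨-, -, g, hg, hge, hgT⟩ := (centralizerHom_iff F).1 (hNT P hφ)
            exact ⟨g, hg, fun z hz => (hge ⟨z, hz⟩).trans (hφf ⟨z, hz⟩), hgT⟩⟩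
      obtain ⟨U, D, hD⟩ := h.exists_centralProduct
      have hTS := hE.1.1.2.2.2.1.1
      haveI := finite_of_le hTS
      have h' : Prod.Ctx p' E E₁ M :=
        Prod.ctx_of_commute (hS.to_le hTS) hE.1.1.1 hE₁E hME h.comm
          (fun P f hf x hx hx2 => h.fix_mem hf hx hx2)
          (fun P f hf x hx hx1 => h.symm.fix_mem hf hx hx1)
      have hED : E.IsSubsystemOf D := hE.2.2 U D (h.isNormal hD) fun X C' hC' => by
        refine Gen.component_le hC'.1 hC'.2 hS hF (h.isNormal hD) ?_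
        rw [h.eq_sup hD]
        rcases dichotomy hS hC'.1 hC'.2 h1F with hle | ⟨hcent, hfix⟩
        · exact hle.trans le_sup_left
        · exact (le_inf (Gen.subnormal_le (hE.2.1 X C' hC'))
            ((le_focal hT₁.1 hC'.2.2.1 hcent hfix).trans hfoc)).trans le_sup_right
      exact sub_antisymm (q := fun {R} X => C.IsNormalIn X p') hED (h'.isNormal hD).1.2.2.1
        (h.normal_of_factor hD hCE₁)
  exact main hC.1 rfl hC.2 inferInstance hS hE

end Cfsg.Agent.H89.Comp
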