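import Cfsg.Agent.H89.Gen.Layer
import Cfsg.Agent.H59.TransportNormal
import Cfsg.Agent.S5140
import Cfsg.Agent.S5141

/-!
A normal subsystem of a quasisimple system sits over the whole group or over a central subgroup.
-/

set_option autoImplicit false
set_option linter.style.haveILetI false
set_option linter.unusedSectionVars false

namespace Cfsg.Agent.H89.Comp

open Cfsg Cfsg.FusionSystem Cfsg.Agent.FusionSys Cfsg.Agent.H91.CentFocal
open Cfsg.Agent.H89.Lift (th tw tw_apply mem_pre mem_img th_mem_img th_eq)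
open Cfsg.Agent.H89 (KerEq)
open Cfsg.FusionSystem (centralizerIn normalizerIn)

variable {Ω : Type*} [Group Ω] {S R : Subgroup Ω} {F : FusionSystem S} {N : FusionSystem R} {p : ℕ}
  [Finite S] [Fact p.Prime]

/-- If `R Z = S` with `Z` central and `R` strongly closed, the hyperfocal subgroup lies in `R`. -/
theorem hyperfocal_le_of_sup (hR : F.StronglyClosed R) {Z : Subgroup Ω} (hZ : F.IsCentral Z)
    (hsup : S ≤ R ⊔ Z) : F.hyperfocalSubgroup p ≤ R := by
  refine (Subgroup.closure_le _).2 ?_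
  rintro _ ⟨P, α, x, hP, -, rfl⟩
  haveI := finite_of_le hR.1
  have hm : IsMap F P (autMap (α : MulAut P)) := (mem_autGroup_iff hP).1 α.2
  obtain ⟨g, hg, hge, hgZ⟩ := (Cfsg.Agent.FusionSys.isCentral_iff.1 hZ).2 P _ hm
  obtain ⟨z, hz, a, ha, hax⟩ : ∃ z ∈ Z, ∃ a ∈ R, z * a = (x : Ω) := by
    have hx : (x : Ω) ∈ Z ⊔ R := sup_comm R Z ▸ hsup (hP x.2)
    rw [← SetLike.mem_coe, Subgroup.coe_mul_of_left_le_normalizer_right Z R fun s hs =>
      mem_normalizer_of_maps fun t ht => conj_mem_closed hR (hZ.1 hs) ht] at hx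
    exact Set.mem_mul.1 hx
  have haX : a ∈ P ⊔ Z := by
    rw [eq_inv_mul_of_mul_eq hax]
    exact Subgroup.mul_mem _ (Subgroup.mem_sup_right (Z.inv_mem hz)) (Subgroup.mem_sup_left x.2)
  have e : (((α : MulAut P) x : P) : Ω) = z * g a := by
    rw [← autMap_coe (α : MulAut P) x, ← hge _ x.2, ← hax, hg.map_mul (Subgroup.mem_sup_right hz) haX,
      hgZ z hz]
  show (x : Ω)⁻¹ * (((α : MulAut P) x : P) : Ω) ∈ R
  rw [e, ← hax, _root_.mul_inv_rev, mul_assoc, inv_mul_cancel_left]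
  exact R.mul_mem (R.inv_mem ha) (mem_of_stronglyClosed hR hg haX ha)

/-- A normal subsystem of a quasisimple system is over `S` or over a central subgroup. -/
theorem eq_top_or_le_center (hS : IsPGroup p S) (hq : F.Quasisimple p) (hN : N.IsNormalIn F p) :
    R = S ∨ R ≤ F.center := by
  obtain ⟨hF, hhyp, hsimp⟩ := hq
  have hcen := isCentral_center F
  have hR : F.StronglyClosed F.center := stronglyClosed_of_normal (ComponentFix.isNormal_of_isCentral hcen)
  set θ := QuotientGroup.mk' ((F.center).subgroupOf S)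
  have hθ : KerEq θ F.center := fun s => QuotientGroup.eq_one_iff s
  have hrange : θ.range = (⊤ : Subgroup (S ⧸ (F.center).subgroupOf S)) :=
    MonoidHom.range_eq_top.2 (QuotientGroup.mk'_surjective _)
  set Z := F.center with hZdef
  set S' : Subgroup (S ⧸ Z.subgroupOf S) := ⊤ with hS'
  set E : FusionSystem S' := factorSystem θ hθ hR hrange
  have hE : F.IsFactorSystem Z θ E := isFactorSystem_factorSystem θ hθ hR hrange
  obtain ⟨hEs, hne, hEsimp⟩ := hsimp E hE
  haveI : Finite S' := hrange ▸ Finite.of_surjective _ θ.rangeRestrict_surjective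
  have hs : Lift.Setup p F θ Z E E := ⟨hS, hF, hcen, hE, Gen.isNormalIn_self hEs⟩
  have hsub := hN.1.2.2.1
  have hinv := hN.1.2.2
  have hRc : F.StronglyClosed R := hN.1.2.2.2.1
  have hRS : R ≤ S := hRc.1
  haveI : Finite R := finite_of_le hRS
  have hRp : IsPGroup p R := hS.to_le hRS
  set θR : R →* S ⧸ Z.subgroupOf S := θ.comp (Subgroup.inclusion hRS)
  have hθR : KerEq θR (Z ⊓ R) := fun r => ⟨fun hr => ⟨(hθ _).1 hr, r.2⟩, fun hr => (hθ _).2 hr.1⟩
  have hcenN : N.IsCentral (Z ⊓ R) := isCentral_of_singleton hRp hN.1.1 inf_le_right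
    fun P f hf x hx hxZ => fix_of_isCentral hcen (isMap_of_sub hsub hf) hx hxZ.1
  have hRN : N.StronglyClosed (Z ⊓ R) := stronglyClosed_of_normal (ComponentFix.isNormal_of_isCentral hcenN)
  set T' : Subgroup (S ⧸ Z.subgroupOf S) := θR.range with hT'
  set E' : FusionSystem T' := factorSystem θR hθR hRN rfl
  have hE' : N.IsFactorSystem (Z ⊓ R) θR E' := isFactorSystem_factorSystem θR hθR hRN rfl
  have hE's : E'.IsSaturated p := H49.isSaturated_factor hRp hN.1.1 hRN hE'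
  haveI : Finite T' := Finite.of_surjective _ θR.rangeRestrict_surjective
  have hs' : Lift.Setup p N θR (Z ⊓ R) E' E' := ⟨hRp, hN.1.1, hcenN, hE', Gen.isNormalIn_self hE's⟩
  have hth : ∀ x ∈ R, th θR x = th θ x := fun x hx => by rw [th_eq θR hx, th_eq θ (hRS hx)]; rfl
  have hT'le : T' ≤ S' := le_top
  have hexT : ∀ {y}, y ∈ T' → ∃ x ∈ R, th θ x = y := fun hy => by
    obtain ⟨x, hx, rfl⟩ := hs'.exists_th hy
    exact ⟨x, hx, (hth x hx).symm⟩
  have hmemT : ∀ {x}, x ∈ R → th θ x ∈ T' := fun {x} hx => hth x hx ▸ hs'.th_mem hx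
  have hclosed : E.StronglyClosed T' := stronglyClosed_iff.2 ⟨hT'le, fun P' f' hP' hf' y hy => by
    obtain ⟨g, hg, hge⟩ := hs.exists_lift hf'
    obtain ⟨x, hx, rfl⟩ := hexT (hP' hy)
    have hxp : x ∈ preimageAlong θ P' := mem_pre.2 ⟨hRS hx, hy⟩
    rw [← hge x hxp]
    exact hmemT (mem_of_stronglyClosed hRc hg hxp hx)⟩
  have hsubE : E'.IsSubsystemOf E := by
    refine isSubsystemOf_iff_isMap.2 fun P' f' hf' => ?_
    obtain ⟨g, hg, hge⟩ := hs'.exists_lift hf'
    obtain ⟨f'', hf'', hfe⟩ := hs.exists_induced (isMap_of_sub hsub hg)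
    have hle : P' ≤ imageAlong θ (preimageAlong θR P') := fun y hy => by
      obtain ⟨x, hx, rfl⟩ := hs'.exists_th (hf'.le hy)
      rw [hth x hx]
      exact th_mem_img ((preimageAlong_le θR P').trans hRS) (mem_pre.2 ⟨hx, hy⟩)
    refine (hf''.mono hle).congr fun y hy => ?_
    obtain ⟨x, hx, rfl⟩ := hs'.exists_th (hf'.le hy)
    have hxp : x ∈ preimageAlong θR P' := mem_pre.2 ⟨hx, hy⟩
    rw [← hge x hxp, hth x hx, hth _ (hg.mem_S hxp), hfe x hxp]
  -- transfer of automorphisms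
  have haut : ∀ a ∈ E.autGroup T', ∃ α ∈ F.autGroup R,
      ∀ x ∈ R, th θ (autMap α x) = autMap a (th θ x) := by
    intro a ha
    obtain ⟨A, hA, hAe⟩ := hs.exists_lift ((mem_autGroup_iff hT'le).1 ha)
    have hRp' : R ≤ preimageAlong θ T' := fun x hx => mem_pre.2 ⟨hRS hx, hmemT hx⟩
    obtain ⟨α, hα, hαe⟩ := (isIso_of_mapsTo (hA.mono hRp')
      fun x hx => mem_of_stronglyClosed hRc hA (hRp' hx) hx).exists_aut
    exact ⟨α, hα, fun x hx => by rw [hαe x hx, hAe x (hRp' hx)]⟩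
  have hweak : E'.IsWeaklyNormalIn E p := by
    refine ⟨hE's, hEs, H59.Transp.isInvariant_iff_isMap.2 ⟨hsubE, hclosed, fun P' f' hf' a ha => ?_,
      fun P' f' hP' hf' => ?_⟩⟩
    · obtain ⟨g, hg, hge⟩ := hs'.exists_lift hf'
      obtain ⟨α, hα, hαt⟩ := haut a ha
      have hαm : IsMap F R (autMap α) := (mem_autGroup_iff hRS).1 hα
      have ham : IsMap E T' (autMap a) := (mem_autGroup_iff hT'le).1 ha
      have hPR : preimageAlong θR P' ≤ R := preimageAlong_le θR P'
      have hχ : IsMap N (imgSub (autMap α) (preimageAlong θR P')) (tw α g) :=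
        Gen.tw_invariant hinv hRc le_rfl hα hPR hg
      obtain ⟨χ, hχ', hχe⟩ := hs'.exists_induced hχ
      have hle : imgSub (autMap a) P' ≤ imageAlong θR (imgSub (autMap α) (preimageAlong θR P')) :=
        fun y hy => by
          obtain ⟨z, hz, rfl⟩ := (ham.mono hf'.le).mem_imgSub.1 hy
          obtain ⟨x, hx, rfl⟩ := hexT (hf'.le hz)
          rw [← hαt x hx, ← hth _ (autMap_mem α hx)]
          refine th_mem_img (fun w hw => ?_) ((hαm.mono hPR).mem_imgSub.2
            ⟨x, mem_pre.2 ⟨hx, (hth x hx).symm ▸ hz⟩, rfl⟩)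
          obtain ⟨v, hv, rfl⟩ := (hαm.mono hPR).mem_imgSub.1 hw
          exact autMap_mem α (hPR hv)
      refine (hχ'.mono hle).congr fun y hy => ?_
      obtain ⟨z, hz, rfl⟩ := (ham.mono hf'.le).mem_imgSub.1 hy
      obtain ⟨x, hx, rfl⟩ := hexT (hf'.le hz)
      have hxp : x ∈ preimageAlong θR P' := mem_pre.2 ⟨hx, (hth x hx).symm ▸ hz⟩
      show autMap a (f' (autMap a⁻¹ (autMap a (th θ x)))) = _
      rw [S5114.inv_autMap_apply a (hf'.le hz), ← hth x hx, ← hge x hxp, hth _ (hg.mem_S hxp),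
        ← hαt _ (hg.mem_S hxp), hth x hx, ← hαt x hx, ← hth _ (autMap_mem α (hg.mem_S hxp)),
        ← hth _ (autMap_mem α hx), ← hχe _ ((hαm.mono hPR).mem_imgSub.2 ⟨x, hxp, rfl⟩),
        tw_apply α g hx]
    · obtain ⟨g, hg, hge⟩ := hs.exists_lift hf'
      set P0 := preimageAlong θ P' ⊓ R with hP0
      obtain ⟨A, hA, d, hd, hde⟩ := frattini_map hinv (inf_le_right : P0 ≤ R) (hg.mono inf_le_left)
      obtain ⟨f₁, hf₁, hf₁e⟩ := hs.exists_induced ((mem_autGroup_iff hRS).1 hA)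
      have hTi : T' ≤ imageAlong θ R := fun y hy => by
        obtain ⟨x, hx, rfl⟩ := hexT hy
        exact th_mem_img hRS hx
      obtain ⟨a, ha, hae⟩ := (isIso_of_mapsTo (hf₁.mono hTi) fun y hy => by
        obtain ⟨x, hx, rfl⟩ := hexT hy
        rw [← hf₁e x hx]
        exact hmemT (autMap_mem A hx)).exists_aut
      obtain ⟨d', hd', hd'e⟩ := hs'.exists_induced hd
      have hPi : P' ≤ imageAlong θR P0 := fun z hz => by
        obtain ⟨x, hx, rfl⟩ := hexT (hP' hz)
        rw [← hth x hx]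
        exact th_mem_img inf_le_right ⟨mem_pre.2 ⟨hRS hx, hz⟩, hx⟩
      refine ⟨a, ha, d', hd'.mono hPi, fun z hz => ?_⟩
      obtain ⟨x, hx, rfl⟩ := hexT (hP' hz)
      have hxp : x ∈ P0 := ⟨mem_pre.2 ⟨hRS hx, hz⟩, hx⟩
      rw [← hge x hxp.1, hde x hxp, ← hth x hx, ← hd'e x hxp, hth _ (hd.mem_S hxp),
        hae _ (hmemT (hd.mem_S hxp)), hf₁e _ (hd.mem_S hxp)]
  obtain ⟨Dr, hDr⟩ := S5140.result p (hs.isPGroup_S'.to_le hT'le) E' hE's
  have hDn := S5141.result p hs.isPGroup_S' E hEs E' hweak Dr hDr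
  rcases hEsimp T' Dr hDn with hbot | ⟨htop, -⟩
  · refine Or.inr fun x hx => ?_
    have h1 : th θ x = 1 := Subgroup.mem_bot.1 (hbot ▸ hmemT hx)
    exact (hs.th_eq_one (hRS hx)).1 h1
  · refine Or.inl (le_antisymm hRS ?_)
    rw [← hhyp]
    refine hyperfocal_le_of_sup hRc hcen fun s hs' => ?_
    obtain ⟨r, hr, hre⟩ := hexT (show th θ s ∈ T' from htop ▸ hs.th_mem hs')
    have h1 : r⁻¹ * s ∈ Z := by
      rw [← hs.th_eq_one (mul_mem (inv_mem (hRS hr)) hs'), Lift.th_diff (hRS hr) hs', hre, inv_mul_cancel]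
    have h2 := Subgroup.mul_mem_sup (hr : r ∈ R) h1
    rwa [mul_inv_cancel_left] at h2

end Cfsg.Agent.H89.Comp
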